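import Cfsg.Agent.Lib.InvChar.CosetCert

/-! Coset enumeration certificate J3O21 for a presented sporadic group. -/

set_option autoImplicit false
set_option maxRecDepth 100000

namespace CfsgLib.InvChar.Coset.J3O21

/-- facts -/
noncomputable def facts : Tr := (.leaf 0xf0000200005f0002b00005f0002d00050f0000600006f0002e00007f0002f0002e300061000500000510005020006100007f0004f0004ef000060002b4000500003e30002b0000520003e0000630002f00003f0002d0002af0002c0000330002a0001640002900015300002000160000050001710000400000200017000614000600006030005f0005f20005e0005e00005d0005d20005c0005c40005b0005b30005a0005a20005900059000058000582000570005740005600056300055000552000540005400005300053200052000524000510005130004c0005030004f0004f20004e0004e00004d0004d20004c0004c40004b0004b30004a0004a2000490004900004800048200047000474000460004630004500045200044000440000430004320004200042400041000413000400004020003f0003f0000040003e40003d0003d30003c0003c20003b0003b00003a0003a200039000394000380003830003700037200036000360000350003520003400034400033000333000320003220003100031000030000302000290002f20002e0002e40002d0002d30002c0002c20002b0002b0000020002a1000010002930002800028200027000270000260002620002500025400024000243000230002320002200022000021000212000200002040001f0001f30001e0001e20001d0001d00001c0001c20001b0001b40001a0001a3000190001920001800018000001000173000160001620001500015400014000143000130001320001200012000011000112000100001040000f0000f30000e0000e20000d0000d00000c0000c20000b0000b40000a0000a300009000092000080000800000700007200006000064000050000530000400004200003000030000000000220000100001300000)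
/-- justifications -/
noncomputable def just : Tr := (.leaf 0xa8001d8001d4001a00000800000050000006c00074000050001000c000000b4001cc00014000400300000069000720006e0004f0000c010000000b8001c80001800020030000002e000710006f0006c0006b0006a000630001500014000130001200011000100000f0000e0000d0000c0000b0000a0000900008000070003c058000001bc001c0001400013000134001b400018001b80013c001b0000ac0019c00198001a0000b50a0e00300c000500004c0004d0006d000060006e0004f40020004018001800017c0017800174001700016c0016800164001600015c0015800154001500014c0014800144001400013000134001b400018001b80013c130f0140030004e0006d000060000800c00000014000100000c001980019c000ac001b00013c00138030d0090000004f0004e0004d0004c0004b0004a000490004800047000460004500044000430004200041000400003f0003e0000300066000670002b0483c048010000ac0019c001980000c00010001a800070060000003d0003c0003b0003a000390003800037000360003500034000330003200031000300002f00065000160006100002000030000404c3c04c008000b8000b4001a0001980019c000ac000a80000400000000080000c0001000014070e0070060002c00067000660000c00c000000ac000a800004000a50006002002000290000000061000620000300024004010000a00009c0009800094000900008c0008800084000800007c0007800074000700006c0006800064000600005c000040019000054120f01200300001000000006100016000150001c014000000100000c0000800184000590008003002000030000200061400180080040005800054000500004c0004800044000400003c0003800034000300002c0002800024000200001c0001800014000100000c00008150f015000)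
/-- relators -/
def rels : List (List ℕ) := [[0, 0], [1, 1], [2, 2], [3, 3], [4, 4], [1, 0, 1, 0, 1, 0, 1, 0], [2, 0, 2, 1], [3, 2, 3, 2, 3, 2], [3, 2, 0, 2, 3, 0], [3, 2, 1, 2, 3, 1], [0, 2, 3, 4, 0, 2, 3, 4, 0, 2, 3, 4], [0, 2, 3, 4, 1, 0, 1, 0, 4, 3, 2, 0, 1], [0, 2, 3, 4, 1, 4, 3, 2, 0, 1, 0, 1, 0, 1], [2, 3, 4, 2, 3, 4, 2, 3], [3, 2, 0, 2, 3, 4, 2, 3, 4, 3, 2, 0], [0, 2, 3, 4, 2, 0, 2, 3, 4, 2, 0, 2, 3, 4, 2, 0, 2, 3, 4, 2, 3, 2]]
/-- subgroup words -/
def subs : List (List ℕ) := []
/-- the letters, as letters of the whole group -/
def emb : List ℕ := [3, 4, 6, 7, 8]
/-- certificate -/
noncomputable def cert : Cert := ⟨5, 120, 97, facts, just, rels, subs⟩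

end CfsgLib.InvChar.Coset.J3O21
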